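import Cfsg.Agent.H430.Om7.Box
import Cfsg.Agent.H957.SpIndex
import Cfsg.Agent.H765.Bs.Kap

/-!
# S3691, `Ω_7(q)`, `q ≥ 31` odd: box BB (helper198)

`case_b` : the factor `X` has a core of order at least `q³(q³+1)(q-1)` and no `r_3`; `r_4` in the reducible factor `Y`:
`Y` contains `Ω_6⁺(q)`, and the orders are too large.
-/

set_option autoImplicit false
set_option linter.unusedSectionVars false

namespace Cfsg.Agent.H198.Om7

open Module QuadraticMap Cfsg Cfsg.Geo Cfsg.Agent.LieClassical.OrthCore Cfsg.Agent.LieClassical.OrthTrans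
  Cfsg.Agent.H454.Reg Cfsg.Agent.H884.El Cfsg.Agent.H955 Cfsg.Agent.H954.TSing Cfsg.Agent.H193.Dg Cfsg.Agent.H851.Dg
  Cfsg.Agent.H449.Reg Cfsg.Agent.H915.LD
open Cfsg.Agent.H951 (fx cm Inv)
open Cfsg.Agent.H278.Cov (Red Ext Num)
open Cfsg.Agent.LieClassical.OrthFinite (glEquiv glEquiv_apply)
open Cfsg.Agent.LieClassical.OrthForms (oddForm coe_oddForm)
open scoped MatrixGroups Matrix

universe u v

section gen

variable {ι : Type} [Fintype ι] [DecidableEq ι] {F : Type v} [Field F] [Fintype F] {Q : QuadraticForm F (ι → F)}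

/-- the centre of `Ω(Q)` has order at most 2 -/
theorem card_center_le (hD : H390.Lift.Data Q) : Nat.card (Subgroup.center (Omega F (⇑Q))) ≤ 2 := by
  classical
  let S : Finset (Matrix ι ι F) := {1, -1}
  have key : ∀ g : Subgroup.center (Omega F (⇑Q)), LieClassical.OmegaCenter.omegaMat (g : Omega F (⇑Q)) ∈ S := by
    intro g
    have h1 := (LieClassical.OmegaCenter.mem_center_omega_iff Q hD.nd hD.dim hD.iso g).1 g.2
    rcases h1 with h1 | h1 <;> rw [h1] <;> simp [S]
  have h2 : Nat.card (Subgroup.center (Omega F (⇑Q))) ≤ Nat.card S :=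
    Nat.card_le_card_of_injective (fun g => (⟨_, key g⟩ : S)) fun a b hab =>
      Subtype.ext (LieClassical.OmegaCenter.omega_ext (congrArg Subtype.val hab))
  rw [Nat.card_eq_fintype_card (α := S), Fintype.card_coe] at h2
  exact h2.trans (Finset.card_le_two)

variable {G : Type u} [Group G] [Finite G] {T : Subgroup G} [T.Normal] {eT : T ≃* POmega F (⇑Q)} {X : Subgroup G}

theorem card_preG_le (hD : H390.Lift.Data Q) : Nat.card (preG eT X) ≤ 2 * Nat.card (X.subgroupOf T) := by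
  set M := (X.subgroupOf T).map eT.toMonoidHom with hM
  have h0 : Nat.card M = Nat.card (X.subgroupOf T) := Subgroup.card_map_of_injective eT.injective
  have h1 : Nat.card (preG eT X) = Nat.card (M.comap (QuotientGroup.mk' (Subgroup.center (Omega F (⇑Q))))) := by
    unfold preG pre
    rw [Subgroup.card_map_of_injective (isometryGroup F (⇑Q)).subtype_injective,
      Subgroup.card_map_of_injective (Omega F (⇑Q)).subtype_injective]
  set f := QuotientGroup.mk' (Subgroup.center (Omega F (⇑Q))) with hf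
  have h2 := (M.comap f).card_mul_index
  rw [Subgroup.index_comap_of_surjective M (QuotientGroup.mk'_surjective _)] at h2
  have h3 := M.card_mul_index
  have h4 := Subgroup.card_eq_card_quotient_mul_card_subgroup (Subgroup.center (Omega F (⇑Q)))
  have hfin : Finite (POmega F (⇑Q)) := Finite.of_equiv T eT.toEquiv
  have h5 : 0 < M.index := Nat.pos_of_ne_zero Subgroup.index_ne_zero_of_finite
  have h6 : Nat.card (M.comap f) = Nat.card (Subgroup.center (Omega F (⇑Q))) * Nat.card M := by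
    apply Nat.eq_of_mul_eq_mul_right h5
    rw [h2, h4, mul_assoc, h3, mul_comm]
  rw [h1, h6, h0]
  exact Nat.mul_le_mul_right _ (card_center_le hD)

variable {H : Subgroup (GL ι F)} {U : Submodule F (ι → F)}

/-- restriction as a homomorphism -/
noncomputable def rstHom (hU : H ≤ subspaceStabilizer U) : H →* (U ≃ₗ[F] U) :=
  MonoidHom.mk' (fun h => rst (h : GL ι F) (hU h.2)) fun a b => by
    apply LinearEquiv.ext
    intro u
    apply Subtype.ext
    change (((a * b : H) : GL ι F) : Matrix ι ι F) *ᵥ (u : ι → F) =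
      ((a : GL ι F) : Matrix ι ι F) *ᵥ (((b : GL ι F) : Matrix ι ι F) *ᵥ (u : ι → F))
    rw [Matrix.mulVec_mulVec]
    rfl

theorem rstHom_apply (hU : H ≤ subspaceStabilizer U) (h : H) (u : U) :
    ((rstHom hU h u : U) : ι → F) = ((h : GL ι F) : Matrix ι ι F) *ᵥ (u : ι → F) := rfl

theorem range_rstHom (hU : H ≤ subspaceStabilizer U) : (rstHom hU).range = resG U H := by
  ext e
  constructor
  · rintro ⟨h, rfl⟩
    exact ⟨h, h.2, fun _ => rfl⟩
  · rintro ⟨h, hh, he⟩
    refine ⟨⟨h, hh⟩, ?_⟩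
    apply LinearEquiv.ext
    intro u
    apply Subtype.ext
    rw [he, rstHom_apply]

/-- the sign on the fixed point -/
theorem sgn_of {v : ι → F} (hH : H ≤ isometryGroup F (⇑Q)) (hv : Q v ≠ 0) (hHv : H ≤ subspaceStabilizer (F ∙ v))
    {g : GL ι F} (hg : g ∈ H) : (g : Matrix ι ι F) *ᵥ v = v ∨ (g : Matrix ι ι F) *ᵥ v = -v := by
  have h1 := H884.OmegaGL.mem_subspaceStabilizer.1 (hHv hg) v (Submodule.mem_span_singleton_self v)
  obtain ⟨c, hc⟩ := Submodule.mem_span_singleton.1 h1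
  rw [glEquiv_apply] at hc
  have h2 := hH hg
  rw [LieClassical.OrthFinite.mem_isometryGroup_iff] at h2
  have h3 := h2 v
  rw [← hc, QuadraticMap.map_smul, smul_eq_mul] at h3
  have h4 : c * c = 1 := mul_right_cancel₀ hv (by rw [h3, one_mul])
  rcases mul_self_eq_one_iff.1 h4 with h5 | h5
  · left; rw [← hc, h5, one_smul]
  · right; rw [← hc, h5, neg_one_smul]

/-- the restriction to `v^⊥` has a kernel of order at most 2 -/
theorem card_resG {v : ι → F} (h2 : (2 : F) ≠ 0) (hH : H ≤ isometryGroup F (⇑Q)) (hv : Q v ≠ 0)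
    (hHv : H ≤ subspaceStabilizer (F ∙ v)) :
    ∃ k, (k = 1 ∨ k = 2) ∧ Nat.card H = k * Nat.card (resG (perp Q (F ∙ v)) H) := by
  classical
  have hfin : Finite (GL ι F) := inferInstance
  have hU : H ≤ subspaceStabilizer (perp Q (F ∙ v)) := stab_perp hH hHv
  refine ⟨Nat.card (rstHom hU).ker, ?_, ?_⟩
  · let S : Finset (ι → F) := {v, -v}
    have key : ∀ h : (rstHom hU).ker, (((h : H) : GL ι F) : Matrix ι ι F) *ᵥ v ∈ S := by
      intro h
      rcases sgn_of hH hv hHv (h : H).2 with h1 | h1 <;> rw [h1] <;> simp [S]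
    have h3 : Nat.card (rstHom hU).ker ≤ Nat.card S := by
      refine Nat.card_le_card_of_injective (fun g => (⟨_, key g⟩ : S)) fun a b hab => ?_
      have hab' : (((a : H) : GL ι F) : Matrix ι ι F) *ᵥ v = (((b : H) : GL ι F) : Matrix ι ι F) *ᵥ v :=
        congrArg Subtype.val hab
      have hinv : ∀ w, (((b : H) : GL ι F)⁻¹ : GL ι F).1 *ᵥ ((((b : H) : GL ι F) : Matrix ι ι F) *ᵥ w) = w := by
        intro w
        rw [Matrix.mulVec_mulVec, ← Units.val_mul, inv_mul_cancel, Units.val_one, Matrix.one_mulVec]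
      have h4 : ((b : H) : GL ι F)⁻¹ * ((a : H) : GL ι F) = 1 := by
        refine Ctx.eq_one_of h2 hv ?_ ?_
        · rw [Units.val_mul, ← Matrix.mulVec_mulVec, hab', hinv]
        · intro w hw
          have e1 : rstHom hU a = 1 := a.2
          have e2 : rstHom hU b = 1 := b.2
          have e3 : (((a : H) : GL ι F) : Matrix ι ι F) *ᵥ w = w := by
            have := rstHom_apply hU a ⟨w, hw⟩
            rw [e1] at this
            exact this.symm
          have e4 : (((b : H) : GL ι F) : Matrix ι ι F) *ᵥ w = w := by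
            have := rstHom_apply hU b ⟨w, hw⟩
            rw [e2] at this
            exact this.symm
          rw [Units.val_mul, ← Matrix.mulVec_mulVec, e3]
          conv_lhs => rw [← e4]
          exact hinv w
      apply Subtype.ext
      apply Subtype.ext
      exact (inv_mul_eq_one.1 h4).symm
    rw [Nat.card_eq_fintype_card (α := S), Fintype.card_coe] at h3
    have h4 := h3.trans Finset.card_le_two
    have h5 : 0 < Nat.card (rstHom hU).ker := Nat.card_pos
    omega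
  · rw [← range_rstHom hU, ← Subgroup.index_ker, Subgroup.card_mul_index]

theorem pow_dvd_resG {v : ι → F} (h2 : (2 : F) ≠ 0) (hH : H ≤ isometryGroup F (⇑Q)) (hv : Q v ≠ 0)
    (hHv : H ≤ subspaceStabilizer (F ∙ v)) {n : ℕ} (hn : Odd n) (hd : n ∣ Nat.card H) :
    n ∣ Nat.card (resG (perp Q (F ∙ v)) H) := by
  obtain ⟨k, hk, hc⟩ := card_resG h2 hH hv hHv
  rw [hc] at hd
  rcases hk with rfl | rfl
  · rwa [one_mul] at hd
  · exact (Nat.Coprime.dvd_of_dvd_mul_left (Nat.coprime_two_right.2 hn) hd)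

end gen

/-- the order of `E(Q)`, plus type, dimension 6 -/
theorem card_E_six {F : Type v} [Field F] [Fintype F] {V : Type*} [AddCommGroup V] [Module F V] [FiniteDimensional F V]
    {Q : QuadraticForm F V} (hQ : Nondeg Q) (h6 : finrank F V = 6) (hP : IsPlus Q) :
    2 * Fintype.card F ^ 6 * (Fintype.card F ^ 3 - 1) * ((Fintype.card F ^ 2 - 1) * (Fintype.card F ^ 4 - 1)) ≤
      4 * Nat.card (E Q) := by
  obtain ⟨e, he⟩ := H955.exists_plus_equiv 3 Q hQ (by rw [h6]) hP
  have h1 := H957.card_isoQ_congr e he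
  have h2 := H957.card_isometryGroup (LieClassical.QuadForms.plusForm 3 F)
  rw [LieClassical.QuadForms.coe_plusForm] at h2
  have h3 := Cfsg.Agent.S0287.result (F := F) rfl 3 (by norm_num)
  have h4 : Nat.card (H957.isoQ Q) = Nat.card (O Q) := rfl
  have h5 := H765.Bs.card_O_le (Q := Q) hQ (by omega)
  rw [h2, ← h1, h4] at h3
  rw [h3] at h5
  have h7 : ∏ i ∈ Finset.range (3 - 1), (Fintype.card F ^ (2 * (i + 1)) - 1) =
      (Fintype.card F ^ 2 - 1) * (Fintype.card F ^ 4 - 1) := by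
    rw [Finset.prod_range_succ, Finset.prod_range_succ, Finset.prod_range_zero, one_mul]
  rw [h7] at h5
  exact h5

theorem num_end {q a b t e P E0 : ℕ} (hq : 31 ≤ q) (he : 1 ≤ e) (h1 : a * b * e = t) (h2 : q ^ 3 * (q ^ 3 + 1) * (q - 1) ≤ P)
    (h3 : P ≤ 2 * a) (h4 : 2 * q ^ 6 * (q ^ 3 - 1) * ((q ^ 2 - 1) * (q ^ 4 - 1)) ≤ 4 * E0) (h5 : E0 ≤ 2 * b)
    (h6 : 2 * t = q ^ 9 * ((q ^ 2 - 1) * (q ^ 4 - 1) * (q ^ 6 - 1))) : False := by
  have e1 : q ^ 3 * (q ^ 3 + 1) * (q - 1) ≤ 2 * a := h2.trans h3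
  have e2 : 2 * q ^ 6 * (q ^ 3 - 1) * ((q ^ 2 - 1) * (q ^ 4 - 1)) ≤ 8 * b := by omega
  have e3 := Nat.mul_le_mul e1 e2
  have e4 : (q ^ 3 + 1) * (q ^ 3 - 1) = q ^ 6 - 1 := by
    rw [← Nat.sq_sub_sq, ← pow_mul, one_pow]
  have e5 : a * b ≤ t := by
    rw [← h1]
    exact Nat.le_mul_of_pos_right _ he
  have e6 : 2 * a * (8 * b) ≤ 8 * (q ^ 9 * ((q ^ 2 - 1) * (q ^ 4 - 1) * (q ^ 6 - 1))) := by
    rw [← h6]
    nlinarith
  have e7 : q ^ 3 * (q ^ 3 + 1) * (q - 1) * (2 * q ^ 6 * (q ^ 3 - 1) * ((q ^ 2 - 1) * (q ^ 4 - 1))) =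
      2 * (q - 1) * (q ^ 9 * ((q ^ 2 - 1) * (q ^ 4 - 1) * (q ^ 6 - 1))) := by
    rw [← e4]
    ring
  rw [e7] at e3
  have e8 := e3.trans e6
  have h2' : 1 < q ^ 2 := Nat.one_lt_pow (by norm_num) (by omega)
  have h4' : 1 < q ^ 4 := Nat.one_lt_pow (by norm_num) (by omega)
  have h6' : 1 < q ^ 6 := Nat.one_lt_pow (by norm_num) (by omega)
  have h9' : 0 < q ^ 9 := Nat.pow_pos (by omega)
  have hpos : 0 < q ^ 9 * ((q ^ 2 - 1) * (q ^ 4 - 1) * (q ^ 6 - 1)) :=
    Nat.mul_pos h9' (Nat.mul_pos (Nat.mul_pos (by omega) (by omega)) (by omega))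
  have e9 := Nat.le_of_mul_le_mul_right e8 hpos
  omega

end Cfsg.Agent.H198.Om7

namespace Cfsg.Agent.H430.Om7

open Module QuadraticMap Cfsg Cfsg.Geo Cfsg.Agent.LieClassical.OrthCore Cfsg.Agent.LieClassical.OrthTrans
  Cfsg.Agent.H454.Reg Cfsg.Agent.H884.El Cfsg.Agent.H955 Cfsg.Agent.H954.TSing Cfsg.Agent.H193.Dg Cfsg.Agent.H851.Dg
  Cfsg.Agent.H449.Reg Cfsg.Agent.H915.LD
open Cfsg.Agent.H951 (fx cm Inv)
open Cfsg.Agent.H278.Cov (Red Ext Num)
open Cfsg.Agent.LieClassical.OrthFinite (glEquiv glEquiv_apply)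
open Cfsg.Agent.LieClassical.OrthForms (oddForm coe_oddForm)
open scoped MatrixGroups Matrix

open Cfsg.Agent.H198.Om7 (card_preG_le card_resG pow_dvd_resG card_E_six num_end)

universe u v

variable {F : Type} [Field F] [Fintype F] {G : Type u} [Group G] [Finite G] {T : Subgroup G} [T.Normal]
  {hG : Good (oddForm 3 F)} {eT : T ≃* POmega F (⇑(oddForm 3 F))} {hI : Ind (eP hG eT)} {X Y : Subgroup G} {p f : ℕ}

/-- box BB : the case without `r_3` -/
theorem case_b (h : Ctx hI X Y p f 3) (hB : Boxes F p f) (h31 : 31 ≤ p ^ f) {P : Subgroup (GL (Unit ⊕ (Fin 3 ⊕ Fin 3)) F)}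
    (hP : IsResidualCore (preG eT X) P) (hc : (p ^ f) ^ 3 * ((p ^ f) ^ 3 + 1) * (p ^ f - 1) ≤ Nat.card P)
    (hs : ∀ s, PP p (f * 3) s → ¬ s ∣ Nat.card (preG eT X)) (h4 : Big T Y p f 4) (hred : Red (preG eT Y)) : False := by
  have hF : Fintype.card F = p ^ f := by rw [← Nat.card_eq_fintype_card]; exact h.card
  have hpodd : Odd (p ^ f) := (h.prime.odd_of_ne_two h.podd).pow
  -- the order of `T`
  have hT : 2 * Nat.card T = (p ^ f) ^ 9 * (((p ^ f) ^ 2 - 1) * ((p ^ f) ^ 4 - 1) * ((p ^ f) ^ 6 - 1)) := by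
    have h3 := S0292.result (F := F) hF hpodd 3 le_rfl
    rw [← coe_oddForm] at h3
    rw [Nat.card_congr eT.toEquiv, h3, Finset.prod_range_succ, Finset.prod_range_succ, Finset.prod_range_succ,
      Finset.prod_range_zero, one_mul]
    rfl
  obtain ⟨s, b, hs3, hsb, hsd⟩ := hB.lp 3 (Or.inl rfl)
  have hsodd : Odd (s ^ b) := h.odd_of_pp hs3 (by norm_num) b
  -- `s ^ b` divides `|Y ∩ T|`
  have hsT : s ^ b ∣ Nat.card T := by
    have e0 : ∀ q : ℕ, q ^ 3 - 1 ∣ q ^ 6 - 1 := fun q => by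
      have := Nat.sub_dvd_pow_sub_pow (q ^ 3) 1 2
      rwa [← pow_mul, one_pow] at this
    have e1 := e0 (p ^ f)
    have e2 : s ^ b ∣ 2 * Nat.card T := by
      rw [hT]
      exact (hsd.trans e1).trans ((Dvd.intro_left _ rfl).trans (Dvd.intro_left _ rfl))
    exact Nat.Coprime.dvd_of_dvd_mul_left (Nat.coprime_two_right.2 hsodd) e2
  have hsX : ¬ s ∣ Nat.card (X.subgroupOf T) := fun hd => hs s hs3 (hd.trans card_dvd_preG)
  have hsY : s ^ b ∣ Nat.card (Y.subgroupOf T) := by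
    have e1 := h.fac.val_eq (h.out 3 s le_rfl hs3)
    rw [Nat.factorization_eq_zero_of_not_dvd hsX, zero_add] at e1
    have hT0 : Nat.card T ≠ 0 := Nat.card_pos.ne'
    have hY0 : Nat.card (Y.subgroupOf T) ≠ 0 := Nat.card_pos.ne'
    rw [hs3.prime.pow_dvd_iff_le_factorization hY0, e1, ← hs3.prime.pow_dvd_iff_le_factorization hT0]
    exact hsT
  have hsY0 : s ^ b ∣ Nat.card (preG eT Y) := hsY.trans card_dvd_preG
  have hb0 : b ≠ 0 := by
    rintro rfl
    rw [pow_zero] at hsb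
    omega
  -- an element of order `s`
  have := Fact.mk hs3.prime
  obtain ⟨z', hz'⟩ := exists_prime_orderOf_dvd_card' s ((dvd_pow_self s hb0).trans hsY0)
  obtain ⟨z, hz, hzo⟩ : ∃ z ∈ preG eT Y, orderOf z = s := ⟨z', z'.2, by rw [Subgroup.orderOf_coe]; exact hz'⟩
  have hz1 := Ctx.ne_one hs3.prime hzo
  have hisz := h.symm.isoOf hs3 (by norm_num) hz hzo
  have hfin : finrank F (Unit ⊕ (Fin 3 ⊕ Fin 3) → F) = 7 := by rw [Module.finrank_fintype_fun_eq_card, h.dim]
  have hppz := h.pp hs3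
  obtain ⟨hcmz, hplz, -⟩ := hisz.odd_case hG.nondeg (lin_ne_one hz1) hppz (by decide) (by rw [hfin]; norm_num)
  have haddz := hisz.finrank_add
  -- an element of order `r_4`
  obtain ⟨r, a, hr, hra, hrd, hrY⟩ := h4
  have ha0 : a ≠ 0 := by
    rintro rfl
    rw [pow_zero] at hra
    omega
  obtain ⟨y, hy, hyo⟩ := h.symm.elt1 hr (by norm_num) (by norm_num) ((dvd_pow_self r ha0).trans hrY)
  have hy1 := Ctx.ne_one hr.prime hyo
  have hisy := h.symm.isoOf hr (by norm_num) hy hyo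
  have hppy := h.pp hr
  obtain ⟨hcmy, -⟩ := hisy.even_case hG.nondeg (lin_ne_one hy1) hppy (by decide) (by rw [hfin]; norm_num)
  have haddy := hisy.finrank_add
  obtain ⟨S, hS0, hS, hSY⟩ := red_fixed hI hppy (by norm_num) (by rw [h.dim]; norm_num) hy
    (by rw [← hyo, pow_orderOf_eq_one]) hy1 hred
  have hSst : preG eT Y ≤ subspaceStabilizer S := (inv0_iff hG).1 fun t ht => hSY t ht
  have hSz : Inv (lin z) S := inv_of_mem (hSst hz)
  have hSd := Submodule.finrank_mono hS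
  obtain ⟨j, hj⟩ := hisz.dvd hppz hSz
  have hj2 : finrank F ↥(S ⊓ cm (lin z)) ≤ finrank F S := Submodule.finrank_mono inf_le_left
  -- `S` is the fixed point of `z`
  have hSfx : S ≤ fx (lin z) := by
    rcases Nat.eq_zero_or_pos (finrank F ↥(S ⊓ cm (lin z))) with h0 | h0
    · have e4 : S ⊓ cm (lin z) = ⊥ := Submodule.finrank_eq_zero.1 h0
      have e5 := H951.inf_fx_sup_inf_cm hisz.ne0 hisz.pow hSz
      rw [e4, sup_bot_eq] at e5
      rw [← e5]
      exact inf_le_right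
    · exfalso
      have e1 : S = fx (lin y) := Submodule.eq_of_le_of_finrank_eq hS (by omega)
      have e2 : S ⊓ cm (lin z) = S := Submodule.eq_of_le_of_finrank_eq inf_le_left (by omega)
      have e3 : S ≤ cm (lin z) := by rw [← e2]; exact inf_le_right
      have hnd : Nondeg (res (oddForm 3 F) S) := by
        rw [e1, ← perp_cm hG.nondeg hisy.iso hisy.ne0 hisy.pow]
        exact nondeg_perp hG.nondeg (nondeg_cm hG.nondeg hisy.iso hisy.ne0 hisy.pow)
      have e4 : S ⊓ fx (lin z) = ⊥ := by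
        rw [eq_bot_iff, ← (H951.isCompl_fx_cm hisz.ne0 hisz.pow).inf_eq_bot]
        exact le_inf inf_le_right (inf_le_left.trans e3)
      obtain ⟨W, -, -, -, hW⟩ := exists_ts_half hisz.iso ⟨hisz.prime⟩ hisz.two_lt hisz.ne0 hisz.pow hSz hnd e4
        (by rw [ord_eq hppz]; decide)
      omega
  have hfxz : finrank F (fx (lin z)) = 1 := by omega
  obtain ⟨v, hvS, hv0⟩ := Submodule.exists_mem_ne_zero_of_ne_bot hS0
  have e1 : F ∙ v ≤ S := (Submodule.span_singleton_le_iff_mem v S).2 hvS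
  have e2 : F ∙ v = fx (lin z) := Submodule.eq_of_le_of_finrank_eq (e1.trans hSfx) (by rw [hfxz, finrank_span_singleton hv0])
  have e3 : S = F ∙ v := le_antisymm (by rw [e2]; exact hSfx) e1
  have e4 : perp (oddForm 3 F) (F ∙ v) = cm (lin z) := by
    rw [e2, ← perp_cm hG.nondeg hisz.iso hisz.ne0 hisz.pow, perp_perp hG.nondeg]
  have hQv : oddForm 3 F v ≠ 0 := by
    intro hQv
    apply hv0
    have h5 : v ∈ perp (oddForm 3 F) (F ∙ v) := by
      intro w hw
      obtain ⟨c, rfl⟩ := Submodule.mem_span_singleton.1 hw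
      rw [polar_smul_left, polar_self', hQv]
      simp
    rw [e4] at h5
    have h6 : v ∈ fx (lin z) := by rw [← e2]; exact Submodule.mem_span_singleton_self v
    have h7 : v ∈ fx (lin z) ⊓ cm (lin z) := ⟨h6, h5⟩
    rw [(H951.isCompl_fx_cm hisz.ne0 hisz.pow).inf_eq_bot] at h7
    exact (Submodule.mem_bot F).1 h7
  have hYv : preG eT Y ≤ subspaceStabilizer (F ∙ v) := by rw [← e3]; exact hSst
  have hplus : IsPlus (res (oddForm 3 F) (perp (oddForm 3 F) (F ∙ v))) := by rw [e4]; exact hplz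
  have hU6 : finrank F (perp (oddForm 3 F) (F ∙ v)) = 6 := by rw [e4, hcmz]
  have hnd : Nondeg (res (oddForm 3 F) (perp (oddForm 3 F) (F ∙ v))) :=
    nondeg_perp hG.nondeg (Ctx.nondeg_line h.two_ne hQv)
  have hle : E (res (oddForm 3 F) (perp (oddForm 3 F) (F ∙ v))) ≤ resG (perp (oddForm 3 F) (F ∙ v)) (preG eT Y) :=
    (hB.sixp hnd hU6 hplus (resG_le_O preG_le) hr (by omega)
      (pow_dvd_resG h.two_ne preG_le hQv hYv (h.odd_of_pp hr (by norm_num) a) (hrY.trans card_dvd_preG))).2 s b hs3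
      (by omega) (pow_dvd_resG h.two_ne preG_le hQv hYv hsodd hsY0)
  -- the orders
  have hfinU : Finite (perp (oddForm 3 F) (F ∙ v) ≃ₗ[F] perp (oddForm 3 F) (F ∙ v)) := by
    have : Finite (perp (oddForm 3 F) (F ∙ v)) := inferInstance
    exact Finite.of_injective (fun e : perp (oddForm 3 F) (F ∙ v) ≃ₗ[F] perp (oddForm 3 F) (F ∙ v) =>
      (e : perp (oddForm 3 F) (F ∙ v) → perp (oddForm 3 F) (F ∙ v))) DFunLike.coe_injective
  have c1 := card_E_six hnd hU6 hplus
  have c2 : Nat.card (E (res (oddForm 3 F) (perp (oddForm 3 F) (F ∙ v)))) ≤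
      Nat.card (resG (perp (oddForm 3 F) (F ∙ v)) (preG eT Y)) := Subgroup.card_le_of_le hle
  obtain ⟨k, hk, hkc⟩ := card_resG h.two_ne (preG_le (eT := eT) (X := Y)) hQv hYv
  have c3 : Nat.card (resG (perp (oddForm 3 F) (F ∙ v)) (preG eT Y)) ≤ Nat.card (preG eT Y) := by
    rw [hkc]
    rcases hk with rfl | rfl <;> omega
  have c4 := card_preG_le (eT := eT) (X := Y) h.data
  have c5 := card_preG_le (eT := eT) (X := X) h.data
  have c6 : Nat.card P ≤ Nat.card (preG eT X) := by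
    have : Finite (GL (Unit ⊕ (Fin 3 ⊕ Fin 3)) F) := inferInstance
    exact Subgroup.card_le_of_le hP.le
  obtain ⟨e, -, -, hcard⟩ := h.fac.card0
  have he : 1 ≤ e := by
    rcases Nat.eq_zero_or_pos e with rfl | he
    · rw [mul_zero] at hcard
      exact absurd hcard Nat.card_pos.ne
    · exact he
  rw [hF] at c1
  exact num_end h31 he hcard hc (c6.trans c5) c1 ((c2.trans c3).trans c4) hT

end Cfsg.Agent.H430.Om7
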