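import Cfsg.Agent.H430.Om7.KD
import Cfsg.Agent.H830.Rg.HexG

/-!
# S3691, `Ω_7(q)`, `q ≥ 31` odd: box K2 (helper198)

`KD.three` : `K` does not stabilise the fixed space of `y` if it acts irreducibly on it
-/

set_option autoImplicit false
set_option linter.unusedSectionVars false

namespace Cfsg.Agent.H198.Om7

open Module QuadraticMap Cfsg Cfsg.Geo Cfsg.Agent.LieClassical.OrthCore Cfsg.Agent.LieClassical.OrthTrans
  Cfsg.Agent.H884.El Cfsg.Agent.H955 Cfsg.Agent.H954.TSing Cfsg.Agent.H430.Om7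
open Cfsg.Agent.H951 (fx cm Inv mem_fx)

variable {F : Type} [Field F] [Fintype F] {V : Type} [AddCommGroup V] [Module F V] [FiniteDimensional F V]

theorem charP_of {p f : ℕ} (hp : p.Prime) (hf : 0 < f) (hc : Nat.card F = p ^ f) : CharP F p := by
  obtain ⟨c, hc'⟩ := CharP.exists F
  obtain ⟨n, hn, hn'⟩ := FiniteField.card F c
  rw [← Nat.card_eq_fintype_card, hc] at hn'
  have h6 : p ∣ c ^ (n : ℕ) := by rw [← hn']; exact dvd_pow_self p hf.ne'
  have h7 : p = c := (Nat.prime_dvd_prime_iff_eq hp hn).1 (hp.dvd_of_dvd_pow h6)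
  rw [h7]; exact hc'

/-- the `p`-part of a group of isometries in dimension 3 -/
theorem three_vp {p f : ℕ} (hp : p.Prime) (hf : 0 < f) (hc : Nat.card F = p ^ f) (h2 : (2 : F) ≠ 0) {Q : QuadraticForm F V}
    (hQ : Nondeg Q) (hd : finrank F V = 3) {P : Subgroup (V ≃ₗ[F] V)} (hP : P ≤ O Q) : (Nat.card P).factorization p ≤ f := by
  have := Fact.mk hp
  have hch := charP_of hp hf hc
  obtain ⟨S⟩ : Nonempty (Sylow p P) := inferInstance
  have h1 : Nat.card (S : Subgroup P) = p ^ (Nat.card P).factorization p := S.card_eq_multiplicity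
  have h3 : Nat.card ((S : Subgroup P).map P.subtype) = Nat.card (S : Subgroup P) :=
    Subgroup.card_map_of_injective P.subtype_injective
  have h4 : (S : Subgroup P).map P.subtype ≤ O Q := by
    rintro _ ⟨g, -, rfl⟩
    exact hP g.2
  have h5 := Cfsg.Agent.H830.Hex.card_pgroup_le h2 1 hQ (by rw [hd]) h4 (S.isPGroup'.map _)
  rw [h3, h1, hc, mul_one, pow_one] at h5
  exact (Nat.pow_le_pow_iff_right hp.one_lt).1 h5

/-- the arithmetic of the orders -/
theorem three_num {p f n R e k t : ℕ} (hp : p.Prime) (hf : 0 < f) (h2 : p ≠ 2) (h31 : 31 ≤ p ^ f) (hk : n * R = k) (hR : R = e * t)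
    (h4 : R ∣ 4 * e) (he : 2 * e = (p ^ f) ^ 2 * ((p ^ f) ^ 4 - 1)) (hord : 2 * k ∣ (p ^ f) ^ 3 * ((p ^ f) ^ 4 - 1))
    (hlo : 2 * f < k.factorization p) (hn0 : n ≠ 0) (hR0 : R ≠ 0) : n ∣ p ^ f ∧ n ≠ 1 := by
  have hq4 : (p ^ f) ^ 4 - 1 ≠ 0 := by
    have : 1 < (p ^ f) ^ 4 := Nat.one_lt_pow (by norm_num) (by omega)
    omega
  have hp0 : (p ^ f) ≠ 0 := by omega
  constructor
  · have h5 : (2 * e) * (n * t) ∣ (2 * e) * p ^ f := by
      have h6 : (2 * e) * p ^ f = (p ^ f) ^ 3 * ((p ^ f) ^ 4 - 1) := by rw [he]; ring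
      have h7 : (2 * e) * (n * t) = 2 * k := by rw [← hk, hR]; ring
      rw [h6, h7]; exact hord
    have h8 : 0 < 2 * e := by rw [he]; positivity
    exact (Dvd.intro _ rfl).trans (Nat.dvd_of_mul_dvd_mul_left h8 h5)
  · rintro rfl
    rw [one_mul] at hk
    subst hk
    have he0 : e ≠ 0 := by rintro rfl; simp at he; omega
    have h5 : R.factorization p ≤ (4 * e).factorization p := (Nat.factorization_le_iff_dvd hR0 (by positivity)).2 h4 p
    have h6 : 4 * e = 2 * ((p ^ f) ^ 2 * ((p ^ f) ^ 4 - 1)) := by rw [← he]; ring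
    have h7 : ((p ^ f) ^ 4 - 1).factorization p = 0 := by
      apply Nat.factorization_eq_zero_of_not_dvd
      intro h8
      have h9 : p ∣ (p ^ f) ^ 4 := (dvd_pow_self p hf.ne').trans (dvd_pow_self _ (by norm_num))
      have h10 : p ∣ 1 := by
        have := Nat.dvd_sub h9 h8
        rwa [Nat.sub_sub_self (Nat.one_le_iff_ne_zero.2 (by positivity))] at this
      exact hp.one_lt.ne' (Nat.dvd_one.1 h10)
    have h8 : (2 : ℕ).factorization p = 0 := by
      apply Nat.factorization_eq_zero_of_not_dvd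
      intro h9
      exact h2 ((Nat.prime_dvd_prime_iff_eq hp Nat.prime_two).1 h9)
    rw [h6, Nat.factorization_mul (by norm_num) (mul_ne_zero (by positivity) hq4), Finsupp.add_apply,
      Nat.factorization_mul (by positivity) hq4, Finsupp.add_apply, h7, h8, ← pow_mul, hp.factorization_pow,
      Finsupp.single_eq_same] at h5
    omega

end Cfsg.Agent.H198.Om7

namespace Cfsg.Agent.H430.Om7

open Module QuadraticMap Cfsg Cfsg.Geo Cfsg.Agent.LieClassical.OrthCore Cfsg.Agent.LieClassical.OrthTrans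
  Cfsg.Agent.H884.El Cfsg.Agent.H955 Cfsg.Agent.H954.TSing
open Cfsg.Agent.H951 (fx cm Inv)

variable {F : Type} [Field F] [Fintype F] {V : Type} [AddCommGroup V] [Module F V] [FiniteDimensional F V]
  {Q : QuadraticForm F V} {K : Subgroup (V ≃ₗ[F] V)} {p f r a : ℕ} {y : V ≃ₗ[F] V}

/-- K2 -/
theorem KD.three (D : KD Q K p f r a y) (hfour : 2 * Nat.card (E (res Q (cm (y : Module.End F V)))) = Nat.card F ^ 2 * (Nat.card F ^ 4 - 1)
      ∧ Nat.card (O (res Q (cm (y : Module.End F V)))) = 4 * Nat.card (E (res Q (cm (y : Module.End F V)))))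
    (hK : ∀ g ∈ K, ∀ s ∈ fx (y : Module.End F V), g s ∈ fx (y : Module.End F V))
    (hirr : ∀ S ≤ fx (y : Module.End F V), (∀ g ∈ K, ∀ s ∈ S, g s ∈ S) → S = ⊥ ∨ S = fx (y : Module.End F V)) : False := by
  have hp := D.prime
  have := Fact.mk hp
  set W := fx (y : Module.End F V) with hW
  set C := cm (y : Module.End F V) with hC
  have hcompl : IsCompl W C := H951.isCompl_fx_cm D.iso.ne0 D.iso.pow
  have hKC : ∀ g ∈ K, ∀ s ∈ C, g s ∈ C := by
    have h1 := D.perp_inv hK
    rwa [D.perp_fx'] at h1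
  have hKfin : Finite K := inferInstance
  set φ := rs C K hKC with hφ
  set ρ := rs W K hK with hρ
  set N := φ.ker with hN
  -- an element of `N` trivial on `W` is trivial
  have htriv : ∀ g : K, g ∈ N → (∀ w ∈ W, (g : V ≃ₗ[F] V) w = w) → g = 1 := by
    intro g hg hgw
    have h1 : ∀ u ∈ C, (g : V ≃ₗ[F] V) u = u := (rs_eq_one hKC).1 hg
    apply Subtype.ext
    apply LinearEquiv.ext
    intro v
    have h2 : v ∈ W ⊔ C := by rw [hcompl.sup_eq_top]; trivial
    obtain ⟨w, hw, c, hc, rfl⟩ := Submodule.mem_sup.1 h2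
    rw [map_add, hgw w hw, h1 c hc]
    rfl
  set P := N.map ρ with hP
  have hinj : Nat.card P = Nat.card N := by
    have h1 : Function.Injective (ρ.comp N.subtype) := by
      rw [injective_iff_map_eq_one]
      intro g hg
      have h2 : ρ (g : K) = 1 := hg
      exact Subtype.ext (htriv g g.2 ((rs_eq_one hK).1 h2))
    have h2 : P = (ρ.comp N.subtype).range := by
      rw [hP, MonoidHom.range_comp, Subgroup.range_subtype]
    rw [h2]
    exact (Nat.card_congr (MonoidHom.ofInjective h1).toEquiv).symm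
  have hPO : P ≤ O (res Q W) := (Subgroup.map_le_range ρ N).trans (rs_range_le hK D.le)
  have hvN : (Nat.card N).factorization p ≤ f := by
    rw [← hinj]
    exact H198.Om7.three_vp hp D.pos D.card D.two_ne D.nd_fx D.fx3 hPO
  have hvR : f < (Nat.card φ.range).factorization p := by
    have h1 : (Nat.card N).factorization p + (Nat.card φ.range).factorization p = (Nat.card K).factorization p :=
      factorization_range φ p
    have h2 := D.lo
    omega
  -- `r` divides the order of the range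
  have hr : r ∣ Nat.card φ.range := by
    have := Fact.mk D.pp.prime
    let y' : K := ⟨y, D.mem⟩
    have h1 : φ y' ≠ 1 := by
      intro h1
      have h2 : y' = 1 := htriv y' h1 (fun w hw => H951.mem_fx.1 hw)
      exact D.ne (congrArg Subtype.val h2)
    have h2 : (φ y') ^ r = 1 := by
      rw [← map_pow]
      have h3 : y' ^ r = 1 := Subtype.ext D.pow
      rw [h3, map_one]
    have h3 : orderOf (⟨φ y', ⟨y', rfl⟩⟩ : φ.range) = r := by
      apply orderOf_eq_prime
      · exact Subtype.ext h2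
      · intro h4
        exact h1 (congrArg Subtype.val h4)
    rw [← h3]
    exact orderOf_dvd_natCard _
  have hE : E (res Q C) ≤ φ.range := D.boxes.four D.nd_cm D.cm4 D.minus (rs_range_le hKC D.le) D.pp hr hvR
  have hRO : φ.range ≤ O (res Q C) := rs_range_le hKC D.le
  obtain ⟨t, ht⟩ := Subgroup.card_dvd_of_le hE
  have h4 : Nat.card φ.range ∣ 4 * Nat.card (E (res Q C)) := by
    rw [← hfour.2]; exact Subgroup.card_dvd_of_le hRO
  have hq := hfour.1
  rw [D.card] at hq
  obtain ⟨hnq, hn1⟩ := H198.Om7.three_num hp D.pos D.podd D.h31 (card_ker_mul φ) ht h4 hq D.ord D.lo Nat.card_pos.ne'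
    Nat.card_pos.ne'
  have hNne : N ≠ ⊥ := by
    intro h
    apply hn1
    rw [← hN, h, Subgroup.card_bot]
  have hPp : IsPGroup p P := by
    obtain ⟨j, -, hj⟩ := (Nat.dvd_prime_pow hp).1 hnq
    exact IsPGroup.of_card (hinj.trans hj)
  -- the fixed space of `N`
  let S : Submodule F V :=
    { carrier := {s | s ∈ W ∧ ∀ g ∈ N, (g : V ≃ₗ[F] V) s = s}
      add_mem' := fun {a b} ha hb => ⟨W.add_mem ha.1 hb.1, fun g hg => by rw [map_add, ha.2 g hg, hb.2 g hg]⟩
      zero_mem' := ⟨W.zero_mem, fun g _ => map_zero _⟩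
      smul_mem' := fun c a ha => ⟨W.smul_mem c ha.1, fun g hg => by rw [map_smul, ha.2 g hg]⟩ }
  have hSW : S ≤ W := fun s hs => hs.1
  have hSK : ∀ g ∈ K, ∀ s ∈ S, g s ∈ S := by
    intro g hg s hs
    refine ⟨hK g hg s hs.1, fun h hh => ?_⟩
    have h1 : (⟨g, hg⟩ : K)⁻¹ * h * (⟨g, hg⟩ : K) ∈ N := by
      have := (MonoidHom.normal_ker φ).conj_mem h hh (⟨g, hg⟩ : K)⁻¹
      rwa [inv_inv] at this
    have h2 := hs.2 _ h1
    have h3 : (g⁻¹ : V ≃ₗ[F] V) ((h : V ≃ₗ[F] V) (g s)) = s := h2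
    have h5 : g ((g⁻¹ : V ≃ₗ[F] V) ((h : V ≃ₗ[F] V) (g s))) = (h : V ≃ₗ[F] V) (g s) := g.apply_symm_apply _
    rw [← h5, h3]
  have hSeq : S = W := by
    rcases hirr S hSW hSK with h | h
    · exfalso
      have := H198.Om7.charP_of hp D.pos D.card
      rcases Cfsg.Agent.H830.Hex.exists_sing_fixed D.two_ne D.nd_fx hPO hPp with h1 | ⟨v, hv0, -, hv⟩
      · apply hn1
        rw [← hinj, h1, Subgroup.card_bot]
      · apply hv0
        have h2 : (v : V) ∈ S := ⟨v.2, fun g hg => by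
          have := hv (ρ g) ⟨g, hg, rfl⟩
          rw [← rs_apply hK, this]⟩
        rw [h, Submodule.mem_bot] at h2
        exact Subtype.ext h2
    · exact h
  apply hNne
  rw [eq_bot_iff]
  intro g hg
  rw [Subgroup.mem_bot]
  refine htriv g hg (fun w hw => ?_)
  have h1 : w ∈ S := by rw [hSeq]; exact hw
  exact h1.2 g hg

end Cfsg.Agent.H430.Om7
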